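import Cfsg.Agent.Lib.H16.G24M.Model.Tabs
import Cfsg.Agent.Lib.H16.G24M.Base

set_option autoImplicit false
set_option maxRecDepth 100000

/-! # The monomial model: word checks (generated) -/

namespace Cfsg.Agent.Lib.H16.G24M.Model

open Cfsg.Agent.Lib.H17.MonoModel Cfsg.Agent.Lib.H16.G24M

theorem range_ok : Range tabs 4032 := by
  intro x p hp
  by_cases hx : x < 6
  · interval_cases x
    · exact checkRangeM_sound _ _ _ range0 p hp
    · exact checkRangeM_sound _ _ _ range1 p hp
    · exact checkRangeM_sound _ _ _ range2 p hp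
    · exact checkRangeM_sound _ _ _ range3 p hp
    · exact checkRangeM_sound _ _ _ range4 p hp
    · exact checkRangeM_sound _ _ _ range5 p hp
  · have : tabs x = 0 := by
      unfold tabs
      split <;> first | omega | rfl
    rw [this]
    have : lkM 0 p = 0 := by unfold lkM; simp
    rw [this]; norm_num

theorem pchk0 : checkWordM (List.map tabs [0, 1]) 0 4032 = true := by
  decide +kernel

theorem pchk1 : checkWordM (List.map tabs [1, 0]) 0 4032 = true := by
  decide +kernel

theorem pchk2 : checkWordM (List.map tabs [2, 3]) 0 4032 = true := by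
  decide +kernel

theorem pchk3 : checkWordM (List.map tabs [3, 2]) 0 4032 = true := by
  decide +kernel

theorem pchk4 : checkWordM (List.map tabs [4, 5]) 0 4032 = true := by
  decide +kernel

theorem pchk5 : checkWordM (List.map tabs [5, 4]) 0 4032 = true := by
  decide +kernel

theorem pairs_ok : PairsOK tabs 4032 := by
  intro x hx
  interval_cases x
  · exact pchk0
  · exact pchk1
  · exact pchk2
  · exact pchk3
  · exact pchk4
  · exact pchk5

theorem exact_chk : ∀ w ∈ PE, checkWordM (w.map tabs) 0 4032 = true := by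
  decide +kernel

/-- the shift of a central word -/
def zval (w : List ℕ) : ℕ := if w ∈ [[1, 3, 5, 3, 1, 2, 2, 2, 5, 5, 2, 2, 2], [1, 1, 1, 1, 3, 4, 3, 3, 0, 3, 1, 2, 1, 1, 3, 0, 4, 3], [1, 3, 4, 3, 1, 3, 4, 3, 1, 3, 4, 3], [1, 3, 3, 3, 1, 2, 5, 2, 1, 3, 3, 3, 1, 2, 5, 2]] then 6 else 0

theorem central_chk' : ∀ w ∈ ZL, checkWordM (w.map tabs) (zval w) 4032 = true := by
  decide +kernel

theorem central_chk : ∀ w ∈ ZL, ∃ e, checkWordM (w.map tabs) e 4032 = true :=
  fun w hw => ⟨_, central_chk' w hw⟩

theorem sym0_chk : checkWordM (List.map tabs uW) 6 4032 = true := by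
  decide +kernel

theorem letters_lt : ∀ w ∈ PE ++ ZL, ∀ x ∈ w, x < 6 := by
  decide +kernel

end Cfsg.Agent.Lib.H16.G24M.Model
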